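import Mathlib.AlgebraicGeometry.Morphisms.Flat
import Mathlib.AlgebraicGeometry.Morphisms.FinitePresentation
import Mathlib.AlgebraicGeometry.ResidueField

/-!
# The kernel pair of the invariants of a groupoid action given on points is flat (G1 team B, node [B])

`A → G` flat (`s`), `ι : A → D`, `Θ : P → D`, `Δ ⊆ D`, `act` : for every ring `T`, every `σ : G → T` and `φ : D → T` with
`σ ∘ s = φ ∘ ι` a point `act σ φ : D → T`, natural in `T`.  `W` = union of the `D(δ)`, `δ ∈ Δ`, stable under `act`, `Θ`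
invariant, and two points of `W` with the same image under `Θ` differ by exactly one `σ`.  Then the first projection of
`W ×_{Spec P} W` is flat.
-/

set_option autoImplicit false

universe u

open CategoryTheory CategoryTheory.Limits AlgebraicGeometry

namespace Groth.Agent.ResProp.EF.K12

/-- a morphism of schemes which is bijective on affine points over an affine target is an isomorphism -/
theorem isIso_of_points_aux {X Y : Scheme.{u}} [IsAffine Y] (f : X ⟶ Y)
    (h : ∀ T : CommRingCat.{u}, Function.Bijective (fun g : Spec T ⟶ X => g ≫ f)) : IsIso f := by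
  obtain ⟨g, hg⟩ := (h Γ(Y, ⊤)).2 Y.isoSpec.inv
  have hs : (Y.isoSpec.hom ≫ g) ≫ f = 𝟙 Y := by
    rw [Category.assoc]
    have : g ≫ f = Y.isoSpec.inv := hg
    rw [this, Iso.hom_inv_id]
  have hr : f ≫ (Y.isoSpec.hom ≫ g) = 𝟙 X := by
    refine X.affineCover.hom_ext _ _ fun i => ?_
    apply (h _).1
    show (X.affineCover.f i ≫ f ≫ Y.isoSpec.hom ≫ g) ≫ f = (X.affineCover.f i ≫ 𝟙 X) ≫ f
    rw [Category.assoc, Category.assoc, hs, Category.comp_id, Category.comp_id]
  exact ⟨_, hr, hs⟩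

/-- equality of morphisms is tested on affine points -/
theorem hom_ext_points {X Y : Scheme.{u}} {f g : X ⟶ Y}
    (h : ∀ (T : CommRingCat.{u}) (x : Spec T ⟶ X), x ≫ f = x ≫ g) : f = g :=
  X.affineCover.hom_ext _ _ fun i => h _ _

/-- a morphism of schemes which is bijective on affine points is an isomorphism -/
theorem isIso_of_points {X Y : Scheme.{u}} (f : X ⟶ Y)
    (h : ∀ T : CommRingCat.{u}, Function.Bijective (fun g : Spec T ⟶ X => g ≫ f)) : IsIso f := by
  have key : ∀ i, IsIso (pullback.snd f (Y.affineCover.f i)) := by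
    intro i
    apply isIso_of_points_aux
    intro T
    constructor
    · intro g₁ g₂ e
      have e' : g₁ ≫ pullback.snd f (Y.affineCover.f i) = g₂ ≫ pullback.snd f (Y.affineCover.f i) := e
      refine pullback.hom_ext ((h T).1 ?_) e'
      show (g₁ ≫ pullback.fst _ _) ≫ f = (g₂ ≫ pullback.fst _ _) ≫ f
      rw [Category.assoc, Category.assoc, pullback.condition, ← Category.assoc, e', Category.assoc]
    · intro y
      obtain ⟨x, hx⟩ := (h T).2 (y ≫ Y.affineCover.f i)
      exact ⟨pullback.lift x y hx, pullback.lift_snd _ _ _⟩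
  exact (IsZariskiLocalAtTarget.iff_of_openCover (P := MorphismProperty.isomorphisms Scheme.{u})
    (f := f) Y.affineCover).2 fun i => key i

section

variable {A G D P : Type u} [CommRing A] [CommRing G] [CommRing D] [CommRing P]

/-- an action of the arrows `σ : G → T` on the points `φ : D → T`, over `s` and `ι`, natural in `T` -/
structure PtAct (s : A →+* G) (ι : A →+* D) where
  act : ∀ {T : Type u} [CommRing T] (σ : G →+* T) (φ : D →+* T), σ.comp s = φ.comp ι → (D →+* T)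
  nat : ∀ {T T' : Type u} [CommRing T] [CommRing T'] (f : T →+* T') (σ : G →+* T) (φ : D →+* T)
    (h : σ.comp s = φ.comp ι),
    f.comp (act σ φ h) = act (f.comp σ) (f.comp φ) (by rw [RingHom.comp_assoc, h, RingHom.comp_assoc])

/-- `φ` is a point of the open set `W` -/
def InW {T : Type u} [CommRing T] (Δ : Set D) (φ : D →+* T) : Prop := Ideal.span (φ '' Δ) = ⊤

/-- the union of the basic open sets -/
noncomputable def Wo (Δ : Set D) : (Spec (CommRingCat.of D)).Opens := ⨆ δ : Δ, PrimeSpectrum.basicOpen (δ : D)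

theorem mem_Wo (Δ : Set D) (x : Spec (CommRingCat.of D)) :
    x ∈ Wo Δ ↔ ∃ δ ∈ Δ, δ ∉ (show PrimeSpectrum D from x).asIdeal := by
  refine (TopologicalSpace.Opens.mem_iSup (s := fun δ : Δ => PrimeSpectrum.basicOpen (δ : D))).trans ?_
  constructor
  · rintro ⟨δ, h⟩
    exact ⟨δ, δ.2, h⟩
  · rintro ⟨δ, h1, h2⟩
    exact ⟨⟨δ, h1⟩, h2⟩

theorem range_subset_iff {T : Type u} [CommRing T] (Δ : Set D) (φ : D →+* T) :
    Set.range (Spec.map (CommRingCat.ofHom φ)) ⊆ (Wo Δ : Set (Spec (CommRingCat.of D))) ↔ InW Δ φ := by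
  constructor
  · intro h
    rw [InW]
    by_contra hne
    obtain ⟨m, hm, hle⟩ := Ideal.exists_le_maximal _ hne
    have := hm.isPrime
    have h1 := h ⟨(⟨m, this⟩ : PrimeSpectrum T), rfl⟩
    obtain ⟨δ, hδ, h2⟩ := (mem_Wo Δ _).1 h1
    exact h2 (hle (Ideal.subset_span ⟨δ, hδ, rfl⟩))
  · rintro h _ ⟨x, rfl⟩
    refine (mem_Wo Δ _).2 ?_
    by_contra hne
    push Not at hne
    have hx : Ideal.span (φ '' Δ) ≤ (show PrimeSpectrum T from x).asIdeal := by
      rw [Ideal.span_le]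
      rintro _ ⟨δ, hδ, rfl⟩
      exact hne δ hδ
    rw [InW] at h
    rw [h] at hx
    exact (show PrimeSpectrum T from x).2.ne_top (top_le_iff.1 hx)

end

section main

variable {A G D P : Type u} [CommRing A] [CommRing G] [CommRing D] [CommRing P]

/-- the ring map of a point of an affine scheme -/
noncomputable def rm {R : Type u} [CommRing R] {T : CommRingCat.{u}} (g : Spec T ⟶ Spec (CommRingCat.of R)) : R →+* T :=
  (Spec.preimage g).hom

@[simp] theorem map_rm {R : Type u} [CommRing R] {T : CommRingCat.{u}} (g : Spec T ⟶ Spec (CommRingCat.of R)) :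
    Spec.map (CommRingCat.ofHom (rm g)) = g := by
  rw [rm, CommRingCat.ofHom_hom, Spec.map_preimage]

@[simp] theorem rm_map {R : Type u} [CommRing R] {T : CommRingCat.{u}} (φ : R →+* T) :
    rm (Spec.map (CommRingCat.ofHom φ)) = φ := by
  rw [rm, Spec.preimage_map]
  rfl

theorem rm_comp_map {R R' : Type u} [CommRing R] [CommRing R'] {T : CommRingCat.{u}}
    (g : Spec T ⟶ Spec (CommRingCat.of R)) (f : R' →+* R) :
    rm (g ≫ Spec.map (CommRingCat.ofHom f)) = (rm g).comp f := by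
  conv_lhs => rw [← map_rm g]
  rw [← Spec.map_comp, ← CommRingCat.ofHom_comp, rm_map]

theorem rm_map_comp {R : Type u} [CommRing R] {T T' : CommRingCat.{u}}
    (g : Spec T ⟶ Spec (CommRingCat.of R)) (f : T ⟶ T') :
    rm (Spec.map f ≫ g) = f.hom.comp (rm g) := by
  conv_lhs => rw [← map_rm g, ← CommRingCat.ofHom_hom f]
  rw [← Spec.map_comp, ← CommRingCat.ofHom_comp, rm_map]

theorem rm_inj {R : Type u} [CommRing R] {T : CommRingCat.{u}} {g g' : Spec T ⟶ Spec (CommRingCat.of R)}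
    (h : rm g = rm g') : g = g' := by
  rw [← map_rm g, h, map_rm]

variable {s : A →+* G} {ι : A →+* D}

/-- the scheme of pairs (point, arrow) -/
noncomputable abbrev Z (s : A →+* G) (ι : A →+* D) : Scheme.{u} :=
  pullback (Spec.map (CommRingCat.ofHom ι)) (Spec.map (CommRingCat.ofHom s))

theorem cond {T : CommRingCat.{u}} (z : Spec T ⟶ Z s ι) :
    (rm (z ≫ pullback.snd _ _)).comp s = (rm (z ≫ pullback.fst _ _)).comp ι := by
  rw [← rm_comp_map, ← rm_comp_map, Category.assoc, Category.assoc, pullback.condition]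

/-- the action as a morphism of schemes -/
noncomputable def α (a : PtAct s ι) : Z s ι ⟶ Spec (CommRingCat.of D) :=
  (Z s ι).isoSpec.hom ≫ Spec.map (CommRingCat.ofHom (a.act _ _ (cond (Z s ι).isoSpec.inv)))

theorem rm_α (a : PtAct s ι) {T : CommRingCat.{u}} (z : Spec T ⟶ Z s ι) :
    rm (z ≫ α a) = a.act _ _ (cond z) := by
  obtain ⟨e, he⟩ : ∃ e : Γ(Z s ι, ⊤) ⟶ T, z = Spec.map e ≫ (Z s ι).isoSpec.inv := by
    refine ⟨Spec.preimage (z ≫ (Z s ι).isoSpec.hom), ?_⟩
    rw [Spec.map_preimage, Category.assoc, Iso.hom_inv_id, Category.comp_id]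
  subst he
  have h1 : (Spec.map e ≫ (Z s ι).isoSpec.inv) ≫ α a =
      Spec.map e ≫ Spec.map (CommRingCat.ofHom (a.act _ _ (cond (Z s ι).isoSpec.inv))) := by
    rw [α, Category.assoc, Iso.inv_hom_id_assoc]
  rw [h1, rm_map_comp, rm_map, a.nat]
  congr 1
  · rw [Category.assoc, rm_map_comp]
  · rw [Category.assoc, rm_map_comp]

/-- the open subscheme `V` of the pairs whose point is in `W` -/
noncomputable abbrev Vs (s : A →+* G) (ι : A →+* D) (Δ : Set D) : Scheme.{u} :=
  pullback (pullback.fst _ _ : Z s ι ⟶ Spec (CommRingCat.of D)) (Wo Δ).ι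

theorem inW_of {Δ : Set D} {T : CommRingCat.{u}} (w : Spec T ⟶ (Wo Δ).toScheme) : InW Δ (rm (w ≫ (Wo Δ).ι)) := by
  rw [← range_subset_iff, map_rm]
  rintro _ ⟨x, rfl⟩
  rw [Scheme.Hom.comp_apply, ← (Wo Δ).range_ι]
  exact ⟨_, rfl⟩

/-- data and hypotheses of node [B] -/
structure Hyp (a : PtAct s ι) (Θ : P →+* D) (Δ : Set D) : Prop where
  inW : ∀ {T : Type u} [CommRing T] (σ : G →+* T) (φ : D →+* T) (h : σ.comp s = φ.comp ι),
    InW Δ φ → InW Δ (a.act σ φ h)
  inv : ∀ {T : Type u} [CommRing T] (σ : G →+* T) (φ : D →+* T) (h : σ.comp s = φ.comp ι),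
    InW Δ φ → (a.act σ φ h).comp Θ = φ.comp Θ
  exi : ∀ {T : Type u} [CommRing T] (φ ψ : D →+* T), InW Δ φ → InW Δ ψ → φ.comp Θ = ψ.comp Θ →
    ∃ (σ : G →+* T) (h : σ.comp s = φ.comp ι), a.act σ φ h = ψ
  uni : ∀ {T : Type u} [CommRing T] (φ : D →+* T) (σ σ' : G →+* T) (h : σ.comp s = φ.comp ι)
    (h' : σ'.comp s = φ.comp ι), InW Δ φ → a.act σ φ h = a.act σ' φ h' → σ = σ'

variable {a : PtAct s ι} {Θ : P →+* D} {Δ : Set D}

theorem range_sub (H : Hyp a Θ Δ) :
    Set.range ((pullback.fst _ _ : Vs s ι Δ ⟶ Z s ι) ≫ α a) ⊆ Set.range (Wo Δ).ι := by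
  rintro _ ⟨v, rfl⟩
  have h1 : InW Δ (rm (((Vs s ι Δ).fromSpecResidueField v ≫ pullback.fst _ _) ≫ α a)) := by
    rw [rm_α]
    apply H.inW
    have : ((Vs s ι Δ).fromSpecResidueField v ≫ pullback.fst _ _) ≫
        (pullback.fst _ _ : Z s ι ⟶ Spec (CommRingCat.of D)) =
        ((Vs s ι Δ).fromSpecResidueField v ≫ pullback.snd _ _) ≫ (Wo Δ).ι := by
      rw [Category.assoc, Category.assoc, pullback.condition]
    rw [this]
    exact inW_of _
  rw [← range_subset_iff, map_rm] at h1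
  rw [(Wo Δ).range_ι]
  have h2 := h1 ⟨IsLocalRing.closedPoint _, rfl⟩
  rw [Category.assoc, Scheme.Hom.comp_apply, Scheme.fromSpecResidueField_apply] at h2
  exact h2

/-- the action on the open subscheme -/
noncomputable def bb (H : Hyp a Θ Δ) : Vs s ι Δ ⟶ (Wo Δ).toScheme :=
  IsOpenImmersion.lift (Wo Δ).ι (pullback.fst _ _ ≫ α a) (range_sub H)

theorem bb_ι (H : Hyp a Θ Δ) : bb H ≫ (Wo Δ).ι = pullback.fst _ _ ≫ α a :=
  IsOpenImmersion.lift_fac _ _ _

/-- the morphism defined by the invariants -/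
noncomputable abbrev ff (Θ : P →+* D) (Δ : Set D) : (Wo Δ).toScheme ⟶ Spec (CommRingCat.of P) :=
  (Wo Δ).ι ≫ Spec.map (CommRingCat.ofHom Θ)

theorem bb_ff (H : Hyp a Θ Δ) : (pullback.snd _ _ : Vs s ι Δ ⟶ _) ≫ ff Θ Δ = bb H ≫ ff Θ Δ := by
  refine hom_ext_points fun T x => ?_
  apply rm_inj
  have e1 : x ≫ pullback.snd _ _ ≫ ff Θ Δ =
      ((x ≫ pullback.snd _ _) ≫ (Wo Δ).ι) ≫ Spec.map (CommRingCat.ofHom Θ) := by
    simp only [ff, Category.assoc]
  have e2 : x ≫ bb H ≫ ff Θ Δ =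
      ((x ≫ pullback.fst _ _) ≫ α a) ≫ Spec.map (CommRingCat.ofHom Θ) := by
    rw [ff, ← Category.assoc (bb H), bb_ι]
    simp only [Category.assoc]
  have e3 : (x ≫ pullback.fst _ _) ≫
      (pullback.fst _ _ : Z s ι ⟶ Spec (CommRingCat.of D)) =
      (x ≫ pullback.snd _ _) ≫ (Wo Δ).ι := by
    rw [Category.assoc, Category.assoc, pullback.condition]
  rw [e1, e2, rm_comp_map, rm_comp_map, rm_α, H.inv, e3]
  rw [e3]
  exact inW_of _

/-- the comparison `V → W ×_{Spec P} W` -/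
noncomputable def kk (H : Hyp a Θ Δ) : Vs s ι Δ ⟶ pullback (ff Θ Δ) (ff Θ Δ) :=
  pullback.lift (pullback.snd _ _) (bb H) (bb_ff H)

theorem kk_fst (H : Hyp a Θ Δ) : kk H ≫ pullback.fst (ff Θ Δ) (ff Θ Δ) = pullback.snd _ _ :=
  pullback.lift_fst _ _ _

theorem kk_snd (H : Hyp a Θ Δ) : kk H ≫ pullback.snd (ff Θ Δ) (ff Θ Δ) = bb H :=
  pullback.lift_snd _ _ _

theorem kk_bijective (H : Hyp a Θ Δ) (T : CommRingCat.{u}) :
    Function.Bijective (fun g : Spec T ⟶ Vs s ι Δ => g ≫ kk H) := by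
  constructor
  · intro v₁ v₂ e
    have e0 : v₁ ≫ kk H = v₂ ≫ kk H := e
    have e1 : v₁ ≫ pullback.snd _ _ = v₂ ≫ pullback.snd _ _ := by
      rw [← kk_fst H, ← Category.assoc, e0, Category.assoc]
    have e2 : v₁ ≫ bb H = v₂ ≫ bb H := by
      rw [← kk_snd H, ← Category.assoc, e0, Category.assoc]
    have e3 : (v₁ ≫ pullback.fst _ _) ≫ α a = (v₂ ≫ pullback.fst _ _) ≫ α a := by
      rw [Category.assoc, Category.assoc, ← bb_ι H, ← Category.assoc, ← Category.assoc, e2]
    have e4 : (v₁ ≫ pullback.fst _ _) ≫ (pullback.fst _ _ : Z s ι ⟶ Spec (CommRingCat.of D)) =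
        (v₂ ≫ pullback.fst _ _) ≫ pullback.fst _ _ := by
      rw [Category.assoc, Category.assoc, pullback.condition, ← Category.assoc, e1, Category.assoc]
    have e5 : InW Δ (rm ((v₁ ≫ pullback.fst _ _) ≫ (pullback.fst _ _ : Z s ι ⟶ Spec (CommRingCat.of D)))) := by
      have : (v₁ ≫ pullback.fst _ _) ≫ (pullback.fst _ _ : Z s ι ⟶ Spec (CommRingCat.of D)) =
          (v₁ ≫ pullback.snd _ _) ≫ (Wo Δ).ι := by
        rw [Category.assoc, Category.assoc, pullback.condition]
      rw [this]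
      exact inW_of _
    have e6 : (v₁ ≫ pullback.fst _ _) = (v₂ ≫ pullback.fst _ _) := by
      refine pullback.hom_ext e4 ?_
      apply rm_inj
      have c2 := cond (v₂ ≫ pullback.fst _ _)
      rw [← e4] at c2
      refine H.uni _ _ _ (cond _) c2 e5 ?_
      rw [← rm_α, e3, rm_α]
      congr 1
      rw [e4]
    exact pullback.hom_ext e6 e1
  · intro k
    have hφ := inW_of (k ≫ pullback.fst _ _)
    have hψ := inW_of (k ≫ pullback.snd _ _)
    have hΘ : (rm ((k ≫ pullback.fst _ _) ≫ (Wo Δ).ι)).comp Θ = (rm ((k ≫ pullback.snd _ _) ≫ (Wo Δ).ι)).comp Θ := by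
      rw [← rm_comp_map, ← rm_comp_map]
      congr 1
      simp only [Category.assoc]
      rw [pullback.condition]
    obtain ⟨σ, h, hσ⟩ := H.exi _ _ hφ hψ hΘ
    have hz : Spec.map (CommRingCat.ofHom (rm ((k ≫ pullback.fst _ _) ≫ (Wo Δ).ι))) ≫ Spec.map (CommRingCat.ofHom ι) =
        Spec.map (CommRingCat.ofHom σ) ≫ Spec.map (CommRingCat.ofHom s) := by
      rw [← Spec.map_comp, ← Spec.map_comp, ← CommRingCat.ofHom_comp, ← CommRingCat.ofHom_comp, h]
    have hv : pullback.lift _ _ hz ≫ (pullback.fst _ _ : Z s ι ⟶ Spec (CommRingCat.of D)) =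
        (k ≫ pullback.fst _ _) ≫ (Wo Δ).ι := by
      rw [pullback.lift_fst, map_rm]
    refine ⟨pullback.lift (pullback.lift _ _ hz) (k ≫ pullback.fst _ _) hv, ?_⟩
    refine pullback.hom_ext ?_ ?_
    · show (pullback.lift (pullback.lift _ _ hz) (k ≫ pullback.fst _ _) hv ≫ kk H) ≫ pullback.fst _ _ = _
      rw [Category.assoc, kk_fst, pullback.lift_snd]
    · rw [← cancel_mono (Wo Δ).ι]
      show ((pullback.lift (pullback.lift _ _ hz) (k ≫ pullback.fst _ _) hv ≫ kk H) ≫ pullback.snd _ _) ≫ _ = _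
      rw [Category.assoc _ (kk H), kk_snd, Category.assoc, bb_ι, ← Category.assoc, pullback.lift_fst]
      apply rm_inj
      rw [rm_α, ← hσ]
      congr 1
      · rw [pullback.lift_snd, rm_map]
      · rw [hv]

/-- **node [B]**: the kernel pair of the invariants is flat -/
theorem flat_fst (hs : s.Flat) (H : Hyp a Θ Δ) : Flat (pullback.fst (ff Θ Δ) (ff Θ Δ)) := by
  have : Flat (Spec.map (CommRingCat.ofHom s)) := by
    rw [HasRingHomProperty.Spec_iff (P := @Flat)]
    exact hs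
  have hi : IsIso (kk H) := isIso_of_points _ (kk_bijective H)
  have h1 : kk H ≫ pullback.fst _ _ = pullback.snd _ _ := pullback.lift_fst _ _ _
  have h2 : pullback.fst (ff Θ Δ) (ff Θ Δ) = inv (kk H) ≫ (pullback.snd _ _ : Vs s ι Δ ⟶ _) := by
    rw [← h1, IsIso.inv_hom_id_assoc]
  rw [h2]
  infer_instance

end main

end Groth.Agent.ResProp.EF.K12
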